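import Groth.Agent.CAlgH3.CechQis

/-!
# Torsion, vanishing and contractibility of the extended alternating Čech complex
-/

set_option autoImplicit false
set_option backward.isDefEq.respectTransparency false
set_option backward.isDefEq.respectTransparency.types false
universe u

open CategoryTheory CategoryTheory.Limits CochainComplex
open Groth.Agent.CAlgH3.ExtCech Groth.Agent.CAlgH3.CechQis
open Groth.Agent.Misc15.Koszul (tor mem_tor exists_uniform_pow)

namespace Groth.Agent.CechExt

variable {R : Type u} [CommRing R]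

theorem subsingleton_loc (f : R) (K : CochainComplex (ModuleCat.{u} R) ℤ) (q : ℤ) (h : Subsingleton (K.X q)) :
    Subsingleton (((DerCA.locCx (Submonoid.powers f)).obj K).X q) :=
  LocalizedModule.subsingleton_iff.2 fun m => ⟨1, Submonoid.one_mem _, h.elim _ _⟩

theorem subsingleton_X_gt (M : ModuleCat.{u} R) : ∀ (fs : List R) (q : ℤ), (fs.length : ℤ) < q →
    Subsingleton ((DerCA.extCech M fs).X q)
  | [], q, hq => ModuleCat.subsingleton_of_isZero (HomologicalComplex.isZero_single_obj_X _ _ _ _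
      (by simp only [List.length_nil] at hq; omega))
  | f :: fs, q, hq => by
    simp only [List.length_cons] at hq
    have h1 := subsingleton_X_gt M fs q (by omega)
    have h2 := subsingleton_loc f _ _ (subsingleton_X_gt M fs (q - 1) (by omega))
    exact ⟨fun x y => cocone_ext (p := q - 1) _ (by omega) (h1.elim _ _) (h2.elim _ _)⟩

theorem isZero_H_outside (M : ModuleCat.{u} R) (fs : List R) (q : ℤ) (hq : q < 0 ∨ (fs.length : ℤ) < q) :
    IsZero (DerCA.extCechH fs M q) := by
  have h : Subsingleton ((DerCA.extCech M fs).X q) := hq.elim (subsingleton_X M fs q) (subsingleton_X_gt M fs q)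
  exact Ex.isZero_homology fun p r _ _ z _ => ⟨0, h.elim _ _⟩

/-- Every cycle becomes a boundary after multiplication by a power of `g`. -/
def Tors (g : R) (K : CochainComplex (ModuleCat.{u} R) ℤ) : Prop :=
  ∀ p q r : ℤ, p + 1 = q → q + 1 = r → ∀ z : K.X q, (K.d q r).hom z = 0 →
    ∃ (n : ℕ) (y : K.X p), (K.d p q).hom y = g ^ n • z

/-- Torsion of the cohomology of a cocone. -/
theorem tors_cocone {K L : CochainComplex (ModuleCat.{u} R) ℤ} (φ : K ⟶ L) (g : R)
    (hinj : ∀ p q r : ℤ, p + 1 = q → q + 1 = r → ∀ a : K.X q, (K.d q r).hom a = 0 →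
      (∃ b : L.X p, (L.d p q).hom b = (φ.f q).hom a) → ∃ (n : ℕ) (c : K.X p), (K.d p q).hom c = g ^ n • a)
    (hsurj : ∀ o p q : ℤ, o + 1 = p → p + 1 = q → ∀ b : L.X p, (L.d p q).hom b = 0 →
      ∃ (n : ℕ) (c : K.X p) (e : L.X o), (K.d p q).hom c = 0 ∧ g ^ n • b = (φ.f p).hom c + (L.d o p).hom e) :
    Tors g (mappingCocone φ) := by
  intro p q r hp hr z hz
  set a := afst φ z with ha
  set b := asnd φ hp z with hb
  have h1 : (K.d q r).hom a = 0 := by
    rw [ha, ← afst_d φ q r hr z, hz]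
    exact map_zero _
  have h2 : (φ.f q).hom a + (L.d p q).hom b = 0 := by
    have h := asnd_d φ p q r hp hr z
    rw [hz, asnd_zero] at h
    exact neg_eq_zero.1 h.symm
  obtain ⟨n, c, hc⟩ := hinj p q r hp hr a h1 ⟨-b, by rw [map_neg]; exact (eq_neg_of_add_eq_zero_left h2).symm⟩
  obtain ⟨k, c', e, hc', he⟩ := hsurj (p - 1) p q (by omega) hp (g ^ n • b + (φ.f p).hom c) (by
    rw [map_add, map_smul, comm_apply φ p q, hc, map_smul, ← smul_add, add_comm, h2, smul_zero])
  refine ⟨k + n, amk φ (show p - 1 + 1 = p by omega) (g ^ k • c - c') (-e), cocone_ext φ hp ?_ ?_⟩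
  · rw [afst_d φ p q hp, afst_amk, map_sub, map_smul, hc, hc', sub_zero, afst_smul, ← ha, smul_smul, ← pow_add]
  · have he' : (L.d (p - 1) p).hom e = g ^ k • (g ^ n • b + (φ.f p).hom c) - (φ.f p).hom c' := by
      rw [he]; abel
    rw [asnd_d φ (p - 1) p q (by omega) hp, afst_amk, asnd_amk, asnd_smul, ← hb, map_sub, map_smul, map_neg, he',
      smul_add, smul_smul, ← pow_add]
    abel

theorem tors_self (f : R) (K : CochainComplex (ModuleCat.{u} R) ℤ) :
    Tors f (mappingCocone (DerCA.locCxUnit (Submonoid.powers f) K)) := by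
  refine tors_cocone _ f (fun p q r hp hr a ha ⟨b, hb⟩ => ?_) (fun o p q ho hp b hb => ?_)
  · obtain ⟨c, n, hc⟩ := exists_loc f K p b
    have h := congrArg (((DerCA.locCx (Submonoid.powers f)).obj K).d p q).hom hc
    rw [map_smul, hb, locUnit_d, ← map_smul, ← sub_eq_zero, ← map_sub] at h
    obtain ⟨m, hm⟩ := (locUnit_eq_zero f K q _).1 h
    refine ⟨m + n, f ^ m • c, ?_⟩
    rw [smul_sub, sub_eq_zero, smul_smul, ← pow_add] at hm
    rw [map_smul, ← hm]
  · obtain ⟨c, n, hc⟩ := exists_loc f K p b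
    have h := congrArg (((DerCA.locCx (Submonoid.powers f)).obj K).d p q).hom hc
    rw [map_smul, hb, smul_zero, locUnit_d] at h
    obtain ⟨m, hm⟩ := (locUnit_eq_zero f K q _).1 h.symm
    refine ⟨m + n, f ^ m • c, 0, by rw [map_smul, hm], ?_⟩
    rw [map_zero, add_zero, map_smul, ← hc, smul_smul, ← pow_add]

theorem tors_of_tors {g : R} {K : CochainComplex (ModuleCat.{u} R) ℤ} (hK : Tors g K) (f : R) :
    Tors g (mappingCocone (DerCA.locCxUnit (Submonoid.powers f) K)) := by
  refine tors_cocone _ g (fun p q r hp hr a ha _ => hK p q r hp hr a ha) (fun o p q ho hp b hb => ?_)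
  obtain ⟨c, n, hc⟩ := exists_loc f K p b
  have h := congrArg (((DerCA.locCx (Submonoid.powers f)).obj K).d p q).hom hc
  rw [map_smul, hb, smul_zero, locUnit_d] at h
  obtain ⟨m, hm⟩ := (locUnit_eq_zero f K q _).1 h.symm
  obtain ⟨k, y, hy⟩ := hK o p q ho hp (f ^ m • c) (by rw [map_smul, hm])
  obtain ⟨e, he⟩ := smul_pow_surjective f K o (m + n) (((DerCA.locCxUnit (Submonoid.powers f) K).f o).hom y)
  refine ⟨k, 0, e, map_zero _, ?_⟩
  rw [map_zero, zero_add]
  refine smul_pow_injective f K p (m + n) ?_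
  simp only at he ⊢
  rw [← map_smul, he, locUnit_d, hy, map_smul, map_smul, ← hc, smul_smul (f ^ m), ← pow_add,
    smul_comm (f ^ (m + n)) (g ^ k)]

theorem tors_extCech (M : ModuleCat.{u} R) : ∀ (fs : List R) (g : R), g ∈ fs → Tors g (DerCA.extCech M fs)
  | [], g, h => absurd h List.not_mem_nil
  | f :: fs, g, h => by
    rcases List.mem_cons.1 h with rfl | h
    · exact tors_self g _
    · exact tors_of_tors (tors_extCech M fs g h) f

theorem exists_pow_smul_eq_zero (M : ModuleCat.{u} R) (fs : List R) (q : ℤ) (x : DerCA.extCechH fs M q) :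
    ∃ n : ℕ, 1 ≤ n ∧ ∀ f ∈ fs, (f ^ n) • x = 0 := by
  obtain ⟨z, rfl⟩ := homologyπ_surjective (DerCA.extCech M fs) q x
  have h : ∀ f ∈ fs, ∃ n : ℕ, f ^ n • ((DerCA.extCech M fs).homologyπ q).hom z = 0 := fun f hf => by
    obtain ⟨n, y, hy⟩ := tors_extCech M fs f hf (q - 1) q (q + 1) (by omega) rfl _
      (congrArg (fun k => k.hom z) ((DerCA.extCech M fs).iCycles_d q (q + 1)))
    refine ⟨n, ?_⟩
    rw [← map_smul, homologyπ_eq_zero_iff _ (q - 1) q (by omega)]
    exact ⟨y, hy.trans (map_smul _ _ _).symm⟩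
  obtain ⟨n, hn⟩ := exists_uniform_pow (fs := fs) (mem_tor.2 h)
  exact ⟨n + 1, by omega, fun f hf => by rw [pow_succ', mul_smul, hn f hf, smul_zero]⟩

theorem isZero_H_of_bijective (M : ModuleCat.{u} R) (fs : List R) (f : R) (hf : f ∈ Ideal.span {a : R | a ∈ fs})
    (hbij : Function.Bijective fun m : M => f • m) (q : ℤ) : IsZero (DerCA.extCechH fs M q) := by
  refine Ex.isZero_homology fun p r hp hr z hz => ?_
  let J : Ideal R :=
    { carrier := {g | ∃ y, ((DerCA.extCech M fs).d p q).hom y = g • z}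
      add_mem' := by
        rintro a b ⟨y, hy⟩ ⟨w, hw⟩
        exact ⟨y + w, by rw [map_add, hy, hw, add_smul]⟩
      zero_mem' := ⟨0, by rw [map_zero, zero_smul]⟩
      smul_mem' := by
        rintro c a ⟨y, hy⟩
        exact ⟨c • y, by rw [map_smul, hy, smul_smul, smul_eq_mul]⟩ }
  have hle : Ideal.span {a : R | a ∈ fs} ≤ J.radical := Ideal.span_le.2 fun g hg => by
    obtain ⟨n, hn⟩ := tors_extCech M fs g hg p q r hp hr z hz
    exact ⟨n, hn⟩
  obtain ⟨N, y, hy⟩ := hle hf
  have hb : ∀ i, Function.Bijective fun x : (DerCA.extCech M fs).X i => f ^ N • x := fun i => by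
    clear hy
    induction N with
    | zero => exact ⟨fun a b h => by simpa using h, fun y => ⟨y, by simp⟩⟩
    | succ n ih =>
      have := (bijective_smul_X M f hbij fs i).comp ih
      simpa [Function.comp_def, smul_smul, pow_succ'] using this
  obtain ⟨y', hy'⟩ := (hb p).2 y
  refine ⟨y', (hb q).1 ?_⟩
  simp only at hy' ⊢
  rw [← map_smul, hy', hy]

end Groth.Agent.CechExt
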