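import Groth.Agent.CechExt.Basic
import Mathlib.Algebra.Homology.HomotopyCategory.Pretriangulated

/-!
# Contractibility of the extended Čech complex at a unit
-/

set_option autoImplicit false
set_option backward.isDefEq.respectTransparency false
set_option backward.isDefEq.respectTransparency.types false
universe u

open CategoryTheory CategoryTheory.Limits CategoryTheory.Pretriangulated CochainComplex
open Groth.Agent.CAlgH3.ExtCech

namespace Groth.Agent.CechExt

variable {R : Type u} [CommRing R]

theorem isZero_quotient_cocone {K L : CochainComplex (ModuleCat.{u} R) ℤ} (φ : K ⟶ L)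
    (h : IsIso ((HomotopyCategory.quotient _ _).map φ)) :
    IsZero ((HomotopyCategory.quotient _ _).obj (mappingCocone φ)) := by
  have hz : IsZero ((HomotopyCategory.quotient (ModuleCat.{u} R) (ComplexShape.up ℤ)).obj (mappingCone φ)) :=
    (Triangle.isZero₃_iff_isIso₁ _ (HomotopyCategory.mappingCone_triangleh_distinguished φ)).2 h
  exact ((CategoryTheory.shiftFunctor (HomotopyCategory (ModuleCat.{u} R) (ComplexShape.up ℤ)) (-1 : ℤ)).map_isZero hz).of_iso
    (((HomotopyCategory.quotient (ModuleCat.{u} R) (ComplexShape.up ℤ)).commShiftIso (-1 : ℤ)).app _)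

theorem isIso_locCxUnit (f : R) (hf : IsUnit f) (K : CochainComplex (ModuleCat.{u} R) ℤ) :
    IsIso (DerCA.locCxUnit (Submonoid.powers f) K) := by
  haveI : ∀ i, IsIso ((DerCA.locCxUnit (Submonoid.powers f) K).f i) := fun i => by
    rw [ConcreteCategory.isIso_iff_bijective]
    refine ⟨(injective_iff_map_eq_zero _).2 fun c hc => ?_, fun x => ?_⟩
    · obtain ⟨n, hn⟩ := (locUnit_eq_zero f K i c).1 hc
      exact ((hf.pow n).smul_eq_zero).1 hn
    · obtain ⟨c, n, hc⟩ := exists_loc f K i x
      obtain ⟨v, hv⟩ := (hf.pow n).exists_left_inv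
      refine ⟨v • c, ?_⟩
      show ((DerCA.locCxUnit (Submonoid.powers f) K).f i).hom (v • c) = x
      rw [map_smul, ← hc, smul_smul, hv, one_smul]
  exact HomologicalComplex.Hom.isIso_of_components _

theorem isZero_quotient_extCech (M : ModuleCat.{u} R) : ∀ (fs : List R), (∃ f ∈ fs, IsUnit f) →
    IsZero ((HomotopyCategory.quotient _ _).obj (DerCA.extCech M fs))
  | [], ⟨f, hf, _⟩ => absurd hf List.not_mem_nil
  | f :: fs, h => by
    refine isZero_quotient_cocone _ ?_
    by_cases hf : IsUnit f
    · haveI := isIso_locCxUnit f hf (DerCA.extCech M fs)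
      infer_instance
    · have h' : ∃ g ∈ fs, IsUnit g := by
        obtain ⟨g, hg, hu⟩ := h
        rcases List.mem_cons.1 hg with rfl | hg
        · exact absurd hu hf
        · exact ⟨g, hg, hu⟩
      have h1 := isZero_quotient_extCech M fs h'
      obtain ⟨H⟩ := (HomotopyCategory.isZero_quotient_obj_iff _).1 h1
      have h2 : IsZero ((HomotopyCategory.quotient (ModuleCat.{u} R) (ComplexShape.up ℤ)).obj
          ((DerCA.locCx (Submonoid.powers f)).obj (DerCA.extCech M fs))) := by
        rw [HomotopyCategory.isZero_quotient_obj_iff]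
        exact ⟨(Homotopy.ofEq ((DerCA.locCx (Submonoid.powers f)).map_id _).symm).trans
          (((DerCA.locFunctor (Submonoid.powers f)).mapHomotopy H).trans
            (Homotopy.ofEq ((DerCA.locCx (Submonoid.powers f)).map_zero _ _)))⟩
      exact ⟨⟨0, h1.eq_of_src _ _, h2.eq_of_src _ _⟩⟩

theorem contractible_of_unit (M : ModuleCat.{u} R) (fs : List R) (h : ∃ f ∈ fs, IsUnit f) :
    Nonempty (Homotopy (𝟙 (DerCA.extCech M fs)) 0) :=
  (HomotopyCategory.isZero_quotient_obj_iff _).1 (isZero_quotient_extCech M fs h)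

end Groth.Agent.CechExt
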