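import Groth.Agent.CechExt.Basic
import Groth.Prelude.Def_LCI2

/-!
# The extended Čech complex of a Koszul regular sequence
-/

set_option autoImplicit false
set_option backward.isDefEq.respectTransparency false
set_option backward.isDefEq.respectTransparency.types false
universe u

open CategoryTheory CategoryTheory.Limits CochainComplex
open Groth.Agent.CAlgH3.ExtCech Groth.Agent.CAlgH3.CechQis
open Groth.Agent.Misc15.Koszul (cfst csnd cmk cfst_cmk csnd_cmk cone_ext cfst_d csnd_d cfst_map csnd_map smul_id_f)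

namespace Groth.Agent.CechExt

variable {R : Type u} [CommRing R]

/-- Iterated cones of multiplications. -/
noncomputable def kos : List R → CochainComplex (ModuleCat.{u} R) ℤ → CochainComplex (ModuleCat.{u} R) ℤ
  | [], K => K
  | g :: gs, K => mappingCone (g • 𝟙 (kos gs K))

theorem smul_comm_sq (g : R) {K L : CochainComplex (ModuleCat.{u} R) ℤ} (a : K ⟶ L) :
    (g • 𝟙 K) ≫ a = a ≫ (g • 𝟙 L) := by
  rw [Linear.smul_comp, Category.id_comp, Linear.comp_smul, Category.comp_id]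

/-- Functoriality of the iterated cones. -/
noncomputable def kosMap {K L : CochainComplex (ModuleCat.{u} R) ℤ} (a : K ⟶ L) :
    ∀ gs : List R, kos gs K ⟶ kos gs L
  | [] => a
  | g :: gs => mappingCone.map _ _ (kosMap a gs) (kosMap a gs) (smul_comm_sq g _)

theorem kos_koszul : ∀ gs : List R, Koszul.koszul R gs =
    kos gs ((HomologicalComplex.single (ModuleCat.{u} R) (ComplexShape.up ℤ) 0).obj (ModuleCat.of R R))
  | [] => rfl
  | g :: gs => by
    show mappingCone (g • 𝟙 (Koszul.koszul R gs)) = mappingCone (g • 𝟙 _)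
    rw [kos_koszul gs]

theorem qi_id (K : CochainComplex (ModuleCat.{u} R) ℤ) : Qi (𝟙 K) := qi_of_quasiIso _

theorem qi_coneMap {K K' L L' : CochainComplex (ModuleCat.{u} R) ℤ} (φ : K ⟶ L) (φ' : K' ⟶ L')
    (a : K ⟶ K') (b : L ⟶ L') (comm : φ ≫ b = a ≫ φ') (ha : Qi a) (hb : Qi b) :
    Qi (mappingCone.map φ φ' a b comm) := by
  have h : QuasiIso ((mappingCone.map φ φ' a b comm)⟦(-1 : ℤ)⟧') :=
    (qi_coconeMap φ φ' a b comm ha hb).quasiIso
  haveI := (CochainComplex.quasiIso_shift_iff _ _).1 h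
  exact qi_of_quasiIso _

/-- Termwise surjective, with kernels on which `g` acts bijectively. -/
structure Good (g : R) {K L : CochainComplex (ModuleCat.{u} R) ℤ} (a : K ⟶ L) : Prop where
  surj : ∀ q, Function.Surjective (a.f q).hom
  inj : ∀ q (x : K.X q), (a.f q).hom x = 0 → g • x = 0 → x = 0
  div : ∀ q (x : K.X q), (a.f q).hom x = 0 → ∃ y, (a.f q).hom y = 0 ∧ g • y = x

theorem good_coneMap {g : R} (h : R) {K L : CochainComplex (ModuleCat.{u} R) ℤ} {a : K ⟶ L} (ha : Good g a) :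
    Good g (mappingCone.map _ _ a a (smul_comm_sq h a)) := by
  refine ⟨fun i y => ?_, fun i x hx hgx => ?_, fun i x hx => ?_⟩
  · obtain ⟨u, hu⟩ := ha.surj (i + 1) (cfst _ (i + 1) rfl y)
    obtain ⟨v, hv⟩ := ha.surj i (csnd _ y)
    refine ⟨cmk _ (i + 1) rfl u v, cone_ext _ (i + 1) rfl ?_ ?_⟩
    · rw [cfst_map, cfst_cmk, hu]
    · rw [csnd_map, csnd_cmk, hv]
  · have h1 := congrArg (cfst (h • 𝟙 L) (i + 1) rfl) hx
    rw [cfst_map, Misc15.Koszul.cfst_zero] at h1
    have h2 := congrArg (csnd (h • 𝟙 L)) hx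
    rw [csnd_map, Misc15.Koszul.csnd_zero] at h2
    have h3 := congrArg (cfst (h • 𝟙 K) (i + 1) rfl) hgx
    rw [Misc15.Koszul.cfst_smul, Misc15.Koszul.cfst_zero] at h3
    have h4 := congrArg (csnd (h • 𝟙 K)) hgx
    rw [Misc15.Koszul.csnd_smul, Misc15.Koszul.csnd_zero] at h4
    refine cone_ext _ (i + 1) rfl ?_ ?_
    · rw [ha.inj _ _ h1 h3, Misc15.Koszul.cfst_zero]
    · rw [ha.inj _ _ h2 h4, Misc15.Koszul.csnd_zero]
  · have h1 := congrArg (cfst (h • 𝟙 L) (i + 1) rfl) hx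
    rw [cfst_map, Misc15.Koszul.cfst_zero] at h1
    have h2 := congrArg (csnd (h • 𝟙 L)) hx
    rw [csnd_map, Misc15.Koszul.csnd_zero] at h2
    obtain ⟨u, hu0, hu⟩ := ha.div _ _ h1
    obtain ⟨v, hv0, hv⟩ := ha.div _ _ h2
    refine ⟨cmk _ (i + 1) rfl u v, cone_ext _ (i + 1) rfl ?_ ?_, cone_ext _ (i + 1) rfl ?_ ?_⟩
    · rw [cfst_map, cfst_cmk, hu0, Misc15.Koszul.cfst_zero]
    · rw [csnd_map, csnd_cmk, hv0, Misc15.Koszul.csnd_zero]
    · rw [Misc15.Koszul.cfst_smul, cfst_cmk, hu]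
    · rw [Misc15.Koszul.csnd_smul, csnd_cmk, hv]

theorem qi_of_surjective {K L : CochainComplex (ModuleCat.{u} R) ℤ} (a : K ⟶ L)
    (hsurj : ∀ q, Function.Surjective (a.f q).hom)
    (hker : ∀ p q r : ℤ, p + 1 = q → q + 1 = r → ∀ x : K.X q, (a.f q).hom x = 0 → (K.d q r).hom x = 0 →
      ∃ w : K.X p, (a.f p).hom w = 0 ∧ (K.d p q).hom w = x) : Qi a := by
  constructor
  · rintro p q r hp hr x hx ⟨y, hy⟩
    obtain ⟨y', rfl⟩ := hsurj p y
    obtain ⟨w, -, hw⟩ := hker p q r hp hr (x - (K.d p q).hom y')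
      (by rw [map_sub, ← comm_apply a p q, hy, sub_self])
      (by
        have h := congrArg (fun k => k.hom y') (K.d_comp_d p q r)
        simp only [ModuleCat.hom_comp, LinearMap.comp_apply, ModuleCat.hom_zero, LinearMap.zero_apply] at h
        rw [map_sub, hx, h, sub_zero])
    exact ⟨w + y', by rw [map_add, hw, sub_add_cancel]⟩
  · intro p q r hp hr y hy
    obtain ⟨x, rfl⟩ := hsurj q y
    obtain ⟨w, hw0, hw⟩ := hker q r (r + 1) hr rfl ((K.d q r).hom x)
      (by rw [← comm_apply a q r, hy])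
      (by
        have h := congrArg (fun k => k.hom x) (K.d_comp_d q r (r + 1))
        simp only [ModuleCat.hom_comp, LinearMap.comp_apply, ModuleCat.hom_zero, LinearMap.zero_apply] at h
        exact h)
    exact ⟨x - w, 0, by rw [map_sub, hw, sub_self], by rw [map_sub, hw0, sub_zero, map_zero, add_zero]⟩

theorem qi_coneMap_of_good {g : R} {K L : CochainComplex (ModuleCat.{u} R) ℤ} {a : K ⟶ L} (ha : Good g a) :
    Qi (mappingCone.map _ _ a a (smul_comm_sq g a)) := by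
  refine qi_of_surjective _ (fun q => (good_coneMap g ha).surj q) fun p q r hp hr x hx hdx => ?_
  have h1 := congrArg (cfst (g • 𝟙 L) r hr) hx
  rw [cfst_map, Misc15.Koszul.cfst_zero] at h1
  have h2 := congrArg (csnd (g • 𝟙 L)) hx
  rw [csnd_map, Misc15.Koszul.csnd_zero] at h2
  obtain ⟨c, hc0, hc⟩ := ha.div _ _ h2
  have hd : g • cfst _ r hr x + (K.d q r).hom (csnd _ x) = 0 := by
    have h := csnd_d (g • 𝟙 K) r hr x
    rw [hdx, Misc15.Koszul.csnd_zero, smul_id_f] at h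
    exact h.symm
  have hac : cfst _ r hr x = -(K.d q r).hom c := by
    rw [← sub_eq_zero]
    refine ha.inj r _ (by rw [map_sub, h1, map_neg, ← comm_apply a q r, hc0, map_zero, neg_zero, sub_zero]) ?_
    rw [smul_sub, smul_neg, sub_neg_eq_add, ← map_smul, hc, hd]
  refine ⟨cmk _ q hp c 0, cone_ext _ q hp ?_ ?_, cone_ext _ r hr ?_ ?_⟩
  · rw [cfst_map, cfst_cmk, hc0, Misc15.Koszul.cfst_zero]
  · rw [csnd_map, csnd_cmk, map_zero, Misc15.Koszul.csnd_zero]
  · rw [cfst_d _ q r hp hr, cfst_cmk, hac]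
  · rw [csnd_d _ q hp, cfst_cmk, csnd_cmk, map_zero, add_zero, smul_id_f, hc]

theorem good_kosMap {g : R} {K L : CochainComplex (ModuleCat.{u} R) ℤ} {a : K ⟶ L} (ha : Good g a) :
    ∀ gs : List R, Good g (kosMap a gs)
  | [] => ha
  | h :: gs => good_coneMap h (good_kosMap ha gs)

theorem qi_kosMap {g : R} {K L : CochainComplex (ModuleCat.{u} R) ℤ} {a : K ⟶ L} (ha : Good g a) :
    ∀ gs : List R, g ∈ gs → Qi (kosMap a gs)
  | [], h => absurd h List.not_mem_nil
  | h :: gs, hg => by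
    by_cases e : g = h
    · subst e
      exact qi_coneMap_of_good (good_kosMap ha gs)
    · exact qi_coneMap _ _ _ _ _ (qi_kosMap ha gs ((List.mem_cons.1 hg).resolve_left e))
        (qi_kosMap ha gs ((List.mem_cons.1 hg).resolve_left e))

/-- The projection of a cocone. -/
noncomputable def proj {K L : CochainComplex (ModuleCat.{u} R) ℤ} (φ : K ⟶ L) : mappingCocone φ ⟶ K where
  f q := (mappingCone.fst φ).1.v (q + -1) q (by omega)
  comm' q r hr := by
    ext x
    exact (afst_d φ q r hr x).symm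

theorem good_proj (f : R) (K : CochainComplex (ModuleCat.{u} R) ℤ) :
    Good f (proj (DerCA.locCxUnit (Submonoid.powers f) K)) := by
  set φ := DerCA.locCxUnit (Submonoid.powers f) K
  refine ⟨fun q a => ⟨amk φ (show q - 1 + 1 = q by omega) a 0, afst_amk φ _ _ _⟩, fun q x hx hfx => ?_, fun q x hx => ?_⟩
  · refine cocone_ext φ (show q - 1 + 1 = q by omega) (hx.trans (afst_zero φ).symm) ?_
    refine (smul_pow_injective f K (q - 1) 1 ?_).trans (asnd_zero φ _).symm
    have h := congrArg (asnd φ (show q - 1 + 1 = q by omega)) hfx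
    rw [asnd_smul, asnd_zero] at h
    simp only [pow_one, smul_zero]
    exact h
  · obtain ⟨b, hb⟩ := smul_pow_surjective f K (q - 1) 1 (asnd φ (show q - 1 + 1 = q by omega) x)
    refine ⟨amk φ (show q - 1 + 1 = q by omega) 0 b, afst_amk φ _ _ _, cocone_ext φ (show q - 1 + 1 = q by omega) ?_ ?_⟩
    · rw [afst_smul, afst_amk, smul_zero]
      exact hx.symm
    · rw [asnd_smul, asnd_amk]
      simp only [pow_one] at hb
      exact hb

theorem exists_qi_kos (M : ModuleCat.{u} R) (gs : List R) : ∀ fs : List R, (∀ f ∈ fs, f ∈ gs) →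
    ∃ P : kos gs (DerCA.extCech M fs) ⟶ kos gs ((HomologicalComplex.single (ModuleCat.{u} R) (ComplexShape.up ℤ) 0).obj M),
      Qi P
  | [], _ => ⟨𝟙 _, qi_id _⟩
  | f :: fs, h => by
    obtain ⟨P, hP⟩ := exists_qi_kos M gs fs fun g hg => h g (List.mem_cons_of_mem _ hg)
    exact ⟨kosMap (proj (DerCA.locCxUnit (Submonoid.powers f) (DerCA.extCech M fs))) gs ≫ P,
      (qi_kosMap (good_proj f _) gs (h f List.mem_cons_self)).comp hP⟩

/-- `x` is a cycle which is not a boundary. -/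
def NonBd (K : CochainComplex (ModuleCat.{u} R) ℤ) (q : ℤ) (x : K.X q) : Prop :=
  (K.d q (q + 1)).hom x = 0 ∧ ∀ y : K.X (q - 1), (K.d (q - 1) q).hom y ≠ x

/-- `g` kills the class of `x`. -/
def Kills (g : R) (K : CochainComplex (ModuleCat.{u} R) ℤ) (q : ℤ) (x : K.X q) : Prop :=
  ∃ y : K.X (q - 1), (K.d (q - 1) q).hom y = g • x

theorem exists_killed (K : CochainComplex (ModuleCat.{u} R) ℤ) (q : ℤ) (x₀ : K.X q) (hx₀ : NonBd K q x₀) :
    ∀ l : List R, (∀ g ∈ l, Tors g K) → ∃ x, NonBd K q x ∧ ∀ g ∈ l, Kills g K q x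
  | [], _ => ⟨x₀, hx₀, fun g hg => absurd hg List.not_mem_nil⟩
  | g :: l, h => by
    classical
    obtain ⟨x, hx, hk⟩ := exists_killed K q x₀ hx₀ l fun g' hg' => h g' (List.mem_cons_of_mem _ hg')
    obtain ⟨n, y, hy⟩ := h g List.mem_cons_self (q - 1) q (q + 1) (by omega) rfl x hx.1
    have hex : ∃ n, Kills (g ^ n) K q x := ⟨n, y, hy⟩
    obtain ⟨m, hm⟩ : ∃ m, Nat.find hex = m + 1 := Nat.exists_eq_succ_of_ne_zero fun h0 => by
      obtain ⟨y, hy⟩ := Nat.find_spec hex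
      rw [h0, pow_zero, one_smul] at hy
      exact hx.2 y hy
    refine ⟨g ^ m • x, ⟨by rw [map_smul, hx.1, smul_zero], fun y hy => Nat.find_min hex (by omega) ⟨y, hy⟩⟩,
      fun g' hg' => ?_⟩
    rcases List.mem_cons.1 hg' with rfl | hg'
    · obtain ⟨y, hy⟩ := Nat.find_spec hex
      exact ⟨y, by rw [hy, hm, pow_succ', mul_smul]⟩
    · obtain ⟨y, hy⟩ := hk g' hg'
      exact ⟨g ^ m • y, by rw [map_smul, hy, smul_comm]⟩

theorem kills_iff (g : R) (K : CochainComplex (ModuleCat.{u} R) ℤ) (p q : ℤ) (hp : p + 1 = q) (x : K.X q) :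
    Kills g K q x ↔ ∃ y : K.X p, (K.d p q).hom y = g • x := by
  obtain rfl : p = q - 1 := by omega
  exact Iff.rfl

theorem nonBd_iff (K : CochainComplex (ModuleCat.{u} R) ℤ) (p q r : ℤ) (hp : p + 1 = q) (hr : q + 1 = r)
    (x : K.X q) : NonBd K q x ↔ (K.d q r).hom x = 0 ∧ ∀ y : K.X p, (K.d p q).hom y ≠ x := by
  obtain rfl : p = q - 1 := by omega
  obtain rfl : r = q + 1 := by omega
  exact Iff.rfl

theorem cone_step {K : CochainComplex (ModuleCat.{u} R) ℤ} (g : R) (o c e : ℤ) (ho : o + 1 = c) (he : c + 1 = e)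
    (hlo : ∀ i, i < e → Ex K i) (z : K.X e) (hz : NonBd K e z) (hg : Kills g K e z) :
    (∀ i, i < c → Ex (mappingCone (g • 𝟙 K)) i) ∧
      ∃ z', NonBd (mappingCone (g • 𝟙 K)) c z' ∧ ∀ a, Kills a K e z → Kills a (mappingCone (g • 𝟙 K)) c z' := by
  set φ := g • 𝟙 K
  refine ⟨fun i hi p r hp hr w hw => ?_, ?_⟩
  · have h1 : (K.d r (r + 1)).hom (cfst φ r hr w) = 0 := by
      have h := cfst_d φ r (r + 1) hr rfl w
      rw [hw, Misc15.Koszul.cfst_zero] at h
      exact neg_eq_zero.1 h.symm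
    obtain ⟨u, hu⟩ := hlo r (by omega) i (r + 1) hr rfl _ h1
    have h2 : g • cfst φ r hr w + (K.d i r).hom (csnd φ w) = 0 := by
      have h := csnd_d φ r hr w
      rw [hw, Misc15.Koszul.csnd_zero, smul_id_f] at h
      exact h.symm
    obtain ⟨v, hv⟩ := hlo i (by omega) p r hp hr (csnd φ w + g • u) (by rw [map_add, map_smul, hu, add_comm, h2])
    refine ⟨cmk φ i hp (-u) v, cone_ext φ r hr ?_ ?_⟩
    · rw [cfst_d φ i r hp hr, cfst_cmk, map_neg, neg_neg, hu]
    · rw [csnd_d φ i hp, cfst_cmk, csnd_cmk, smul_id_f, hv, smul_neg]; abel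
  · obtain ⟨w, hw⟩ := (kills_iff g K c e he z).1 hg
    obtain ⟨hz1, hz2⟩ := (nonBd_iff K c e (e + 1) he rfl z).1 hz
    refine ⟨cmk φ e he z (-w), (nonBd_iff _ o c e ho he _).2 ⟨cone_ext φ (e + 1) rfl ?_ ?_, fun y hy => ?_⟩,
      fun a ha => ?_⟩
    · rw [cfst_d φ e (e + 1) he rfl, cfst_cmk, hz1, neg_zero, Misc15.Koszul.cfst_zero]
    · rw [csnd_d φ e he, cfst_cmk, csnd_cmk, smul_id_f, map_neg, hw, add_neg_cancel, Misc15.Koszul.csnd_zero]
    · have h := congrArg (cfst φ e he) hy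
      rw [cfst_d φ c e ho he, cfst_cmk, ← map_neg] at h
      exact hz2 _ h
    · obtain ⟨v, hv⟩ := (kills_iff a K c e he z).1 ha
      obtain ⟨t, ht⟩ := hlo c (by omega) o e ho he (g • v - a • w)
        (by rw [map_sub, map_smul, map_smul, hv, hw, smul_comm g a, sub_self])
      refine (kills_iff a _ o c ho _).2 ⟨cmk φ c ho (-v) t, cone_ext φ e he ?_ ?_⟩
      · rw [cfst_d φ c e ho he, cfst_cmk, map_neg, neg_neg, hv, Misc15.Koszul.cfst_smul, cfst_cmk]
      · rw [csnd_d φ c ho, cfst_cmk, csnd_cmk, smul_id_f, ht, Misc15.Koszul.csnd_smul, csnd_cmk, smul_neg, smul_neg]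
        abel

theorem kos_nonBd {K : CochainComplex (ModuleCat.{u} R) ℤ} (q : ℤ) (hlt : ∀ i, i < q → Ex K i)
    (x : K.X q) (hx : NonBd K q x) : ∀ gs : List R, (∀ g ∈ gs, Kills g K q x) → ∀ c : ℤ, c + gs.length = q →
      (∀ i, i < c → Ex (kos gs K) i) ∧
        ∃ z, NonBd (kos gs K) c z ∧ ∀ a, Kills a K q x → Kills a (kos gs K) c z
  | [], _, c, hc => by
    obtain rfl : c = q := by simpa using hc
    exact ⟨hlt, x, hx, fun a ha => ha⟩
  | g :: gs, hgs, c, hc => by
    obtain ⟨hlo, z, hz, hk⟩ := kos_nonBd q hlt x hx gs (fun a ha => hgs a (List.mem_cons_of_mem _ ha)) (c + 1)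
      (by simp at hc; omega)
    obtain ⟨h1, z', hz', hk'⟩ := cone_step g (c - 1) c (c + 1) (by omega) rfl hlo z hz (hk g (hgs g List.mem_cons_self))
    exact ⟨h1, z', hz', fun a ha => hk' a (hk a ha)⟩

theorem ex_of_koszulRegular (fs : List R) (hfs : LCI.IsKoszulRegularSeq R fs) :
    ∀ (k : ℕ) (q : ℤ), q < k → q < fs.length → Ex (DerCA.extCech (ModuleCat.of R R) fs) q
  | 0, q, hq, _ => fun p r _ _ z _ =>
      ⟨0, (subsingleton_X (ModuleCat.of R R) fs q (by omega)).elim _ _⟩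
  | k + 1, q, hq, hql => by
    intro p r hp hr z hz
    obtain rfl : p = q - 1 := by omega
    obtain rfl : r = q + 1 := by omega
    by_contra hcon
    simp only [not_exists] at hcon
    obtain ⟨x, hx, hk⟩ := exists_killed _ q z ⟨hz, hcon⟩ fs fun g hg => tors_extCech _ fs g hg
    obtain ⟨-, w, hw, -⟩ := kos_nonBd q (fun i hi => ex_of_koszulRegular fs hfs k i (by omega) (by omega)) x hx fs
      hk (q - fs.length) (by omega)
    obtain ⟨P, hP⟩ := exists_qi_kos (ModuleCat.of R R) fs fs fun f hf => hf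
    obtain ⟨i, hi⟩ : ∃ i : ℤ, i = q - fs.length := ⟨_, rfl⟩
    revert w
    rw [← hi]
    intro w hw
    have hex : Ex (Koszul.koszul R fs) i := by
      intro p' r' hp' hr' z' hz'
      obtain ⟨t, rfl⟩ := exists_cycle _ i r' hr' z' hz'
      haveI := ModuleCat.subsingleton_of_isZero (hfs i (by omega))
      exact (homologyπ_eq_zero_iff _ p' i hp' t).1 (Subsingleton.elim _ _)
    rw [kos_koszul] at hex
    obtain ⟨y, hy⟩ := hex (i - 1) (i + 1) (by omega) rfl ((P.f i).hom w) (by rw [comm_apply P, hw.1, map_zero])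
    obtain ⟨v, hv⟩ := hP.inj (i - 1) i (i + 1) (by omega) rfl w hw.1 ⟨y, hy⟩
    exact hw.2 v hv

theorem isZero_H_of_koszulRegular (fs : List R) (hfs : LCI.IsKoszulRegularSeq R fs) (q : ℤ)
    (hq : q ≠ (fs.length : ℤ)) : IsZero (DerCA.extCechH fs (ModuleCat.of R R) q) := by
  rcases lt_or_gt_of_ne hq with h | h
  · exact (ex_of_koszulRegular fs hfs (q + 1).toNat q (by omega) h).isZero_homology
  · exact isZero_H_outside _ fs q (Or.inr h)

end Groth.Agent.CechExt
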